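import Mathlib

set_option autoImplicit false
universe w v u

namespace Groth.CanonSheaf

open CategoryTheory CategoryTheory.Limits Opposite

variable {C : Type u} [SmallCategory C] {J : GrothendieckTopology C}

variable (J) in
noncomputable abbrev ε : C ⥤ Sheaf J (Type u) := yoneda ⋙ presheafToSheaf J (Type u)

noncomputable def pt (U : C) (F : (Sheaf J (Type u))) : ((ε J).obj U ⟶ F) ≃ F.obj.obj (op U) :=
  ((sheafificationAdjunction J (Type u)).homEquiv _ _).trans yonedaEquiv

/-- The morphism classified by a section. -/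
noncomputable def hat {U : C} (F : (Sheaf J (Type u))) (x : F.obj.obj (op U)) : (ε J).obj U ⟶ F := (pt U F).symm x

theorem pt_comp {U : C} {F G : (Sheaf J (Type u))} (φ : (ε J).obj U ⟶ F) (g : F ⟶ G) :
    pt U G (φ ≫ g) = g.hom.app (op U) (pt U F φ) := by
  simp only [pt, Equiv.trans_apply, Adjunction.homEquiv_naturality_right, yonedaEquiv_comp]
  rfl

theorem pt_map {U V : C} (v : V ⟶ U) (F : (Sheaf J (Type u))) (φ : (ε J).obj U ⟶ F) :
    pt V F ((ε J).map v ≫ φ) = F.obj.map v.op (pt U F φ) := by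
  simp only [pt, Equiv.trans_apply, Functor.comp_map]
  rw [Adjunction.homEquiv_naturality_left, yonedaEquiv_naturality]

theorem pt_hat {U : C} (F : (Sheaf J (Type u))) (x : F.obj.obj (op U)) : pt U F (hat F x) = x :=
  (pt U F).apply_symm_apply x

theorem hat_comp {U : C} {F G : (Sheaf J (Type u))} (x : F.obj.obj (op U)) (g : F ⟶ G) :
    hat F x ≫ g = hat G (g.hom.app (op U) x) :=
  (pt U G).injective (by rw [pt_comp, pt_hat, pt_hat])

theorem map_hat {U V : C} (v : V ⟶ U) (F : (Sheaf J (Type u))) (x : F.obj.obj (op U)) :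
    (ε J).map v ≫ hat F x = hat F (F.obj.map v.op x) :=
  (pt V F).injective (by rw [pt_map, pt_hat, pt_hat])

theorem hat_pt {U : C} {F : (Sheaf J (Type u))} (φ : (ε J).obj U ⟶ F) : hat F (pt U F φ) = φ :=
  (pt U F).symm_apply_apply φ

/-- Where a section lies in a sieve. -/
def loc {F : (Sheaf J (Type u))} (S : Sieve F) {U : C} (x : F.obj.obj (op U)) : Sieve U where
  arrows V v := S (hat F (F.obj.map v.op x))
  downward_closed {V W} v h u := by
    rw [op_comp, Functor.map_comp_apply, ← map_hat]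
    exact S.downward_closed h _

/-- A sieve is locally surjective. -/
def LS {F : (Sheaf J (Type u))} (S : Sieve F) : Prop := ∀ (U : C) (x : F.obj.obj (op U)), loc S x ∈ J U

theorem LS.pullback {F G : (Sheaf J (Type u))} {S : Sieve F} (h : LS S) (f : G ⟶ F) : LS (S.pullback f) := by
  intro U x
  convert h U (f.hom.app _ x) using 1
  ext V v
  change S (hat G (G.obj.map v.op x) ≫ f) ↔ S (hat F (F.obj.map v.op (f.hom.app _ x)))
  rw [hat_comp, NatTrans.naturality_apply]

theorem sheaf_ext (W : (Sheaf J (Type u))) {U : C} {S : Sieve U} (hS : S ∈ J U) {a b : W.obj.obj (op U)}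
    (h : ∀ V (v : V ⟶ U), S v → W.obj.map v.op a = W.obj.map v.op b) : a = b :=
  (((isSheaf_iff_isSheaf_of_type _ _).1 W.property).isSeparated _ hS).ext h

theorem isSheafFor_yoneda {F : (Sheaf J (Type u))} (S : Sieve F) (hS : LS S) (W : (Sheaf J (Type u))) :
    Presieve.IsSheafFor (yoneda.obj W) S.arrows := by
  intro t ht
  have ht' := Presieve.compatible_iff_sieveCompatible _ |>.1 ht
  have hex : ∀ (U : C) (x : F.obj.obj (op U)), ∃! z : W.obj.obj (op U), ∀ V (v : V ⟶ U) (hv : loc S x v),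
      W.obj.map v.op z = pt V W (t (hat F (F.obj.map v.op x)) hv) := by
    intro U x
    obtain ⟨z, hz, hu⟩ := (isSheaf_iff_isSheaf_of_type _ _).1 W.property _ (hS U x)
      (fun V v hv => pt V W (t (hat F (F.obj.map v.op x)) hv))
      (fun V₁ V₂ Z g₁ g₂ f₁ f₂ h₁ h₂ hh => by
        rw [← pt_map, ← pt_map]
        congr 1
        have e₁ := ht' (hat F (F.obj.map f₁.op x)) ((ε J).map g₁) h₁
        have e₂ := ht' (hat F (F.obj.map f₂.op x)) ((ε J).map g₂) h₂
        refine (e₁.symm.trans ?_).trans e₂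
        congr 1
        rw [map_hat, map_hat, ← Functor.map_comp_apply, ← Functor.map_comp_apply, ← op_comp,
          ← op_comp, hh])
    exact ⟨z, fun V v hv => hz v hv, fun y hy => hu y fun V v hv => hy V v hv⟩
  have tc : ∀ {Y : Sheaf J (Type u)} (φ ψ : Y ⟶ F) (e : φ = ψ) (hφ : S φ) (hψ : S ψ), t φ hφ = t ψ hψ := by
    rintro Y φ _ rfl hφ hψ; rfl
  let τ : F ⟶ W := ⟨{
    app := fun U => ↾fun x => (hex U.unop x).choose
    naturality := fun U U' f => by
      ext x
      refine (hex U'.unop (F.obj.map f x)).choose_spec.2 _ ?_ |>.symm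
      intro V v hv
      change W.obj.map v.op (W.obj.map f (hex U.unop x).choose) = _
      have hv' : loc S x (v ≫ f.unop) := by
        change S (hat F (F.obj.map (v ≫ f.unop).op x))
        rw [op_comp, Functor.map_comp_apply]
        exact hv
      have h1 := (hex U.unop x).choose_spec.1 V (v ≫ f.unop) hv'
      refine (Eq.trans ?_ h1).trans (congrArg (pt V W) (tc _ _ (congrArg (hat F) ?_) _ _))
      · rw [op_comp, Functor.map_comp_apply]; rfl
      · rw [op_comp, Functor.map_comp_apply]; rfl }⟩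
  have key : ∀ (U : C) (x : F.obj.obj (op U)) V (v : V ⟶ U) (hv : loc S x v),
      W.obj.map v.op (τ.hom.app (op U) x) = pt V W (t (hat F (F.obj.map v.op x)) hv) :=
    fun U x => (hex U x).choose_spec.1
  refine ⟨τ, fun Y a ha => ?_, fun τ' hτ' => ?_⟩
  · change a ≫ τ = t a ha
    refine Sheaf.hom_ext (NatTrans.ext (funext fun U => ?_))
    ext y
    obtain ⟨U⟩ := U
    change τ.hom.app (op U) (a.hom.app (op U) y) = (t a ha).hom.app (op U) y
    have hid : loc S (a.hom.app (op U) y) (𝟙 U) := by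
      change S (hat F (F.obj.map (𝟙 U).op (a.hom.app (op U) y)))
      rw [op_id, Functor.map_id_apply, ← hat_comp]
      exact S.downward_closed ha _
    have h1 := key U _ U (𝟙 U) hid
    refine (Eq.trans ?_ h1).trans ?_
    · rw [op_id, Functor.map_id_apply]
    have h3 := congrArg (pt U W) ((ht' a (hat Y y) ha).trans rfl)
    refine (congrArg (pt U W) (tc _ _ ?_ _ _)).trans (h3.trans ((pt_comp (hat Y y) (t a ha)).trans (by rw [pt_hat])))
    rw [op_id, Functor.map_id_apply, hat_comp]
  · refine Sheaf.hom_ext (NatTrans.ext (funext fun U => ?_))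
    ext x
    obtain ⟨U⟩ := U
    refine (hex U x).choose_spec.2 _ fun V v hv => ?_
    have h1 : hat F (F.obj.map v.op x) ≫ τ' = t _ hv := hτ' _ hv
    rw [← h1, pt_comp, pt_hat, NatTrans.naturality_apply]
    rfl

theorem mem_of_LS {F : (Sheaf J (Type u))} {S : Sieve F} (hS : LS S) :
    S ∈ Sheaf.canonicalTopology (Sheaf J (Type u)) F := by
  refine Sheaf.mem_finestTopology_of_forall_isSheafFor ?_
  rintro _ ⟨W, rfl⟩ Y f
  exact isSheafFor_yoneda _ (hS.pullback f) W

variable (J) in
/-- The sheaf of closed sieves. -/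
noncomputable def Ω : (Sheaf J (Type u)) :=
  ⟨(Functor.closedSieves J).toFunctor, (isSheaf_iff_isSheaf_of_type _ _).2 (classifier_isSheaf J)⟩

/-- A jointly epimorphic sieve is locally surjective. -/
theorem LS_of_epi {F : (Sheaf J (Type u))} (S : Sieve F)
    (h : ∀ (Z : (Sheaf J (Type u))) (a b : F ⟶ Z), (∀ Y (f : Y ⟶ F), S f → f ≫ a = f ≫ b) → a = b) : LS S := by
  have hloc : ∀ {U V : C} (v : V ⟶ U) (x : F.obj.obj (op U)),
      loc S (F.obj.map v.op x) = (loc S x).pullback v := fun v x => by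
    ext W w
    change S _ ↔ S _
    rw [← Functor.map_comp_apply, ← op_comp]
  let a : F ⟶ Ω J := ⟨{
    app := fun U => ↾fun x => ⟨J.close (loc S (show F.obj.obj (op U.unop) from x)), J.close_isClosed _⟩
    naturality := fun U U' f => by
      ext x
      apply Subtype.ext
      change J.close (loc S (F.obj.map f.unop.op x)) = (J.close (loc S x)).pullback f.unop
      rw [hloc, J.pullback_close] }⟩
  let b : F ⟶ Ω J := ⟨{
    app := fun U => ↾fun _ => ⟨(⊤ : Sieve U.unop), fun Y f _ => trivial⟩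
    naturality := fun U U' f => by
      ext x
      exact Subtype.ext Sieve.pullback_top.symm }⟩
  have hab : a = b := h _ a b fun Y f hf => by
    refine Sheaf.hom_ext (NatTrans.ext (funext fun U => ?_))
    ext y
    apply Subtype.ext
    change J.close (loc S (f.hom.app (op U.unop) y)) = ⊤
    rw [J.close_eq_top_iff_mem]
    convert J.top_mem U.unop
    rw [← top_le_iff]
    intro V v _
    change S (hat F (F.obj.map v.op (f.hom.app (op U.unop) y)))
    rw [← NatTrans.naturality_apply, ← hat_comp]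
    exact S.downward_closed hf _
  intro U x
  have := congrArg (fun c : F ⟶ Ω J => (c.hom.app (op U) x).1) hab
  exact (J.close_eq_top_iff_mem _).1 this

theorem epi_of_mem {F : (Sheaf J (Type u))} {S : Sieve F}
    (hS : S ∈ Sheaf.canonicalTopology (Sheaf J (Type u)) F) (Z : (Sheaf J (Type u))) (a b : F ⟶ Z)
    (h : ∀ Y (f : Y ⟶ F), S f → f ≫ a = f ≫ b) : a = b :=
  ((Sheaf.isSheaf_yoneda_obj Z).isSeparated _ hS).ext fun Y f hf => h Y f hf

theorem mem_iff_LS {F : (Sheaf J (Type u))} {S : Sieve F} :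
    S ∈ Sheaf.canonicalTopology (Sheaf J (Type u)) F ↔ LS S :=
  ⟨fun h => LS_of_epi S (epi_of_mem h), mem_of_LS⟩

variable {P : (Sheaf J (Type u))ᵒᵖ ⥤ Type w}

theorem ext_hat (hP : Presieve.IsSheaf (Sheaf.canonicalTopology (Sheaf J (Type u))) P) {F : (Sheaf J (Type u))}
    (p q : P.obj (op F))
    (h : ∀ U (x : F.obj.obj (op U)), P.map (hat F x).op p = P.map (hat F x).op q) : p = q := by
  let S := Sieve.ofArrows (fun i : (Σ U : C, F.obj.obj (op U)) => (ε J).obj i.1) fun i => hat F i.2
  have hS : LS S := fun U x => by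
    convert J.top_mem U
    rw [← top_le_iff]
    exact fun V v _ => Sieve.ofArrows_mk _ (fun i : (Σ U : C, F.obj.obj (op U)) => hat F i.2) ⟨V, _⟩
  refine (hP.isSeparated _ (mem_of_LS hS)).ext fun Y f hf => ?_
  rw [Sieve.mem_ofArrows_iff] at hf
  obtain ⟨⟨U, x⟩, a, rfl⟩ := hf
  rw [op_comp, Functor.map_comp_apply, Functor.map_comp_apply, h U x]

theorem ext_locally (hP : Presieve.IsSheaf (Sheaf.canonicalTopology (Sheaf J (Type u))) P) {U : C}
    {S : Sieve U} (hS : S ∈ J U) (p q : P.obj (op ((ε J).obj U)))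
    (h : ∀ V (v : V ⟶ U), S v → P.map ((ε J).map v).op p = P.map ((ε J).map v).op q) : p = q := by
  let R := Sieve.ofArrows (fun i : (Σ V : C, {v : V ⟶ U // S v}) => (ε J).obj i.1)
    fun i => (ε J).map i.2.1
  have hR : R ∈ Sheaf.canonicalTopology (Sheaf J (Type u)) ((ε J).obj U) := by
    refine mem_of_LS (LS_of_epi R fun Z a b hab => ?_)
    apply (pt U Z).injective
    refine sheaf_ext Z hS fun V v hv => ?_
    rw [← pt_map, ← pt_map, hab _ _ (Sieve.ofArrows_mk _
      (fun i : (Σ V : C, {v : V ⟶ U // S v}) => (ε J).map i.2.1) ⟨V, v, hv⟩)]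
  refine (hP.isSeparated _ hR).ext fun Y f hf => ?_
  rw [Sieve.mem_ofArrows_iff] at hf
  obtain ⟨⟨V, v, hv⟩, a, rfl⟩ := hf
  rw [op_comp, Functor.map_comp_apply, Functor.map_comp_apply, h V v hv]

end Groth.CanonSheaf
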