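import Mathlib
import Groth.Agent.Lib.CanonSheaf.Basic

set_option autoImplicit false
universe w v u

namespace Groth.CanonSheaf

open CategoryTheory CategoryTheory.Limits Opposite

variable {C : Type u} [SmallCategory C] {J : GrothendieckTopology C}
  {P : (Sheaf J (Type u))ᵒᵖ ⥤ Type w}

theorem preservesLimits_of_isSheaf
    (hP : Presieve.IsSheaf (Sheaf.canonicalTopology (Sheaf J (Type u))) P) :
    PreservesLimitsOfSize.{u, u} P where
  preservesLimitsOfShape {K} _ := ⟨fun {D} => ⟨fun {c} hc => by
    rw [Types.isLimit_iff]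
    intro p hp
    let g := fun k : K => ((c.π.app k).unop : (D.obj k).unop ⟶ c.pt.unop)
    let I := Σ k : K, Σ U : C, (D.obj k).unop.obj.obj (op U)
    let G := fun i : I => (ε J).obj i.2.1
    let γ : ∀ i : I, G i ⟶ c.pt.unop := fun i => hat _ i.2.2 ≫ g i.1
    let S := Sieve.ofArrows G γ
    have hS : S ∈ Sheaf.canonicalTopology (Sheaf J (Type u)) c.pt.unop := by
      refine mem_of_LS (LS_of_epi S fun Z a b hab => ?_)
      refine Quiver.Hom.op_inj (hc.hom_ext fun k => ?_)
      apply Quiver.Hom.unop_inj
      change g k ≫ a = g k ≫ b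
      refine Sheaf.hom_ext (NatTrans.ext (funext fun U => ?_))
      ext y
      obtain ⟨U⟩ := U
      have := congrArg (pt U Z) (hab _ _ (Sieve.ofArrows_mk G γ ⟨k, U, y⟩))
      simp only [γ, Category.assoc, pt_comp, pt_hat] at this
      exact this
    let val := fun i : I => P.map (hat _ i.2.2).op (p i.1)
    -- the presheaf of local sections of the diagram, modulo equal values
    let Q : Cᵒᵖ ⥤ Type u :=
      { obj := fun U => Quot fun a b : (Σ k : K, (D.obj k).unop.obj.obj (op U.unop)) =>
          P.map (hat _ a.2).op (p a.1) = P.map (hat _ b.2).op (p b.1)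
        map := fun {U V} f => ↾Quot.map (fun a => ⟨a.1, (D.obj a.1).unop.obj.map f a.2⟩) (fun a b h => by
          change P.map (hat _ _).op _ = P.map (hat _ _).op _
          rw [← f.op_unop, ← map_hat, ← map_hat, op_comp, op_comp, Functor.map_comp_apply,
            Functor.map_comp_apply, h])
        map_id := fun U => by
          ext ⟨k, x⟩
          exact congrArg (Quot.mk _) (congrArg (Sigma.mk k) ((D.obj k).unop.obj.map_id_apply U x))
        map_comp := fun f f' => by
          ext ⟨k, x⟩
          exact congrArg (Quot.mk _) (congrArg (Sigma.mk k) (Functor.map_comp_apply (D.obj k).unop.obj f f' x)) }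
    let q : ∀ k, (D.obj k).unop.obj ⟶ Q := fun k =>
      { app := fun U => ↾fun x => Quot.mk _ ⟨k, x⟩
        naturality := fun U V f => by ext x; rfl }
    let aQ : (Sheaf J (Type u))ᵒᵖ := op ((presheafToSheaf J (Type u)).obj Q)
    let qa : ∀ k, (D.obj k).unop ⟶ (presheafToSheaf J (Type u)).obj Q := fun k =>
      ⟨q k ≫ toSheafify J Q⟩
    let cq : Cone D :=
      { pt := aQ
        π :=
          { app := fun k => (qa k).op
            naturality := fun k l f => by
              refine Eq.trans (Category.id_comp _) ?_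
              apply Quiver.Hom.unop_inj
              change qa l = (D.map f).unop ≫ qa k
              refine Sheaf.hom_ext (NatTrans.ext (funext fun U => ?_))
              ext x
              obtain ⟨U⟩ := U
              change (toSheafify J Q).app _ (Quot.mk _ ⟨l, x⟩) =
                (toSheafify J Q).app _ (Quot.mk _ ⟨k, (D.map f).unop.hom.app (op U) x⟩)
              congr 1
              apply Quot.sound
              change P.map (hat _ x).op (p l) = P.map (hat _ _).op (p k)
              rw [← hat_comp, op_comp, Functor.map_comp_apply, Quiver.Hom.op_unop]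
              exact congrArg _ (hp f).symm } }
    have hq : ∀ k, g k ≫ (hc.lift cq).unop = qa k := fun k =>
      Quiver.Hom.op_inj (hc.fac cq k)
    have heq : ∀ {U : C} (k l : K) (x : (D.obj k).unop.obj.obj (op U)) (y : (D.obj l).unop.obj.obj (op U)),
        (g k).hom.app (op U) x = (g l).hom.app (op U) y →
          P.map (hat _ x).op (p k) = P.map (hat _ y).op (p l) := by
      intro U k l x y hxy
      have h1 : (toSheafify J Q).app (op U) (Quot.mk _ ⟨k, x⟩) = (toSheafify J Q).app (op U) (Quot.mk _ ⟨l, y⟩) := by
        have hk := congrArg (fun z : (D.obj k).unop ⟶ (presheafToSheaf J (Type u)).obj Q => z.hom.app (op U) x) (hq k)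
        have hl := congrArg (fun z : (D.obj l).unop ⟶ (presheafToSheaf J (Type u)).obj Q => z.hom.app (op U) y) (hq l)
        refine (hk.symm.trans ?_).trans hl
        exact congrArg ((hc.lift cq).unop.hom.app (op U)) hxy
      refine ext_locally hP (Presheaf.equalizerSieve_mem J (toSheafify J Q) (X := op U) _ _ h1) _ _
        fun V v hv => ?_
      have h2 : Relation.EqvGen _ _ _ := Quot.eqvGen_exact hv
      have h3 := (Equivalence.eqvGen_iff (r := fun a b : (Σ k : K, (D.obj k).unop.obj.obj (op V)) =>
        P.map (hat _ a.2).op (p a.1) = P.map (hat _ b.2).op (p b.1))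
        ⟨fun a => rfl, Eq.symm, Eq.trans⟩).1 h2
      rw [← Functor.map_comp_apply, ← Functor.map_comp_apply, ← op_comp, ← op_comp, map_hat, map_hat]
      exact h3
    obtain ⟨t, ht, hu⟩ := (Presieve.isSheafFor_arrows_iff _ _).1
      ((Presieve.isSheafFor_iff_generate _).2 (hP _ hS)) val (fun i j W a b hab => by
        refine ext_hat hP _ _ fun U x => ?_
        simp only [val]
        rw [← Functor.map_comp_apply, ← Functor.map_comp_apply, ← Functor.map_comp_apply,
          ← Functor.map_comp_apply, ← op_comp, ← op_comp, ← op_comp, ← op_comp]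
        erw [hat_comp, hat_comp, hat_comp, hat_comp]
        apply heq
        simp only [γ] at hab
        have := congrArg (fun z : W ⟶ c.pt.unop => z.hom.app (op U) x) hab
        exact this)
    refine ⟨t, fun k => ?_, fun t' ht' => hu t' fun i => ?_⟩
    · refine ext_hat hP _ _ fun U x => ?_
      refine Eq.trans ?_ (ht ⟨k, U, x⟩)
      rw [op_comp, Functor.map_comp_apply]
      rfl
    · simp only [γ, val]
      rw [op_comp, Functor.map_comp_apply, ← ht' i.1]
      rfl⟩⟩

theorem isSheaf_of_preservesLimits (h : PreservesLimitsOfSize.{u, u} P) :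
    Presieve.IsSheaf (Sheaf.canonicalTopology (Sheaf J (Type u))) P := by
  suffices key : ∀ (F : Sheaf J (Type u)) (S : Sieve F), LS S →
      ∃ S' : Sieve F, S' ≤ S ∧ LS S' ∧ Presieve.IsSheafFor P S'.arrows by
    -- small subfamilies suffice
    intro F S hS
    obtain ⟨S', hle, hS', hP'⟩ := key F S (mem_iff_LS.1 hS)
    refine Presieve.isSheafFor_subsieve_aux P hle hP' fun Y f _ => ?_
    obtain ⟨R, hRle, -, hR⟩ := key Y (S'.pullback f) (hS'.pullback f)
    intro x a b ha hb
    exact hR.isSeparatedFor (fun W g hg => x g (hRle _ hg)) a b (fun W g hg => ha g (hRle _ hg))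
      fun W g hg => hb g (hRle _ hg)
  intro F S hS
  let I := Σ U : C, {x : F.obj.obj (op U) // S (hat F x)}
  let G := fun i : I => (ε J).obj i.1
  let γ : ∀ i : I, G i ⟶ F := fun i => hat F i.2.1
  refine ⟨Sieve.ofArrows G γ, ?_, ?_, ?_⟩
  · rw [Sieve.ofArrows, Sieve.generate_le_iff]
    rintro _ _ ⟨i⟩
    exact i.2.2
  · intro U x
    refine J.superset_covering ?_ (hS U x)
    intro V v hv
    exact Sieve.ofArrows_mk G γ ⟨V, _, hv⟩
  · refine (Presieve.isSheafFor_iff_generate _).1 ((Presieve.isSheafFor_arrows_iff_pullbacks _ _).2 fun x hx => ?_)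
    have hLS : Sieve.ofArrows G γ ∈ Sheaf.canonicalTopology (Sheaf J (Type u)) F := by
      refine mem_of_LS fun U x => J.superset_covering ?_ (hS U x)
      intro V v hv
      exact Sieve.ofArrows_mk G γ ⟨V, _, hv⟩
    let sh : MultispanShape.{u, u} :=
      { L := I × I, R := I, fst := Prod.fst, snd := Prod.snd }
    let ix : MultispanIndex sh (Sheaf J (Type u)) :=
      { left := fun a => pullback (γ a.1) (γ a.2)
        right := G
        fst := fun a => pullback.fst (γ a.1) (γ a.2)
        snd := fun a => pullback.snd (γ a.1) (γ a.2) }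
    let K : Multicofork ix := Multicofork.ofπ ix F γ (fun a => pullback.condition)
    have hdesc : ∀ E : Multicofork ix, ∃! m : F ⟶ E.pt, ∀ i, γ i ≫ m = E.π i := fun E =>
      (Presieve.isSheafFor_arrows_iff_pullbacks _ _).1
        ((Presieve.isSheafFor_iff_generate _).2 (Sheaf.isSheaf_yoneda_obj E.pt _ hLS))
        (fun i => E.π i) fun i j => E.condition (i, j)
    let hK : IsColimit K := Multicofork.IsColimit.mk K (fun E => (hdesc E).choose)
      (fun E => (hdesc E).choose_spec.1) fun E m hm => (hdesc E).choose_spec.2 m hm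
    have : PreservesLimitsOfShape (WalkingMultispan sh)ᵒᵖ P := h.preservesLimitsOfShape
    have hlim := (Types.isLimit_iff _).1 ⟨isLimitOfPreserves P hK.op⟩
    let val₀ : ∀ j : WalkingMultispan sh, P.obj (op (ix.multispan.obj j)) := fun j =>
      WalkingMultispan.recOn j (fun a => P.map (pullback.fst (γ a.1) (γ a.2)).op (x a.1)) (fun i => x i)
    let val : ∀ j : (WalkingMultispan sh)ᵒᵖ, (ix.multispan.op ⋙ P).obj j := fun j => val₀ j.unop
    have hval₀ : ∀ (j k : WalkingMultispan sh) (f : WalkingMultispan.Hom k j),
        P.map (ix.multispan.map f).op (val₀ j) = val₀ k := by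
      intro j k f
      cases f with
      | id =>
        erw [CategoryTheory.Functor.map_id]
        simp
      | fst a => rfl
      | snd a => exact (hx a.1 a.2).symm
    have hval : val ∈ (ix.multispan.op ⋙ P).sections := fun {j k} f => hval₀ j.unop k.unop f.unop
    obtain ⟨t, ht, hu⟩ := hlim val hval
    have ht0 : ∀ i, P.map (γ i).op t = x i := fun i => ht (op (WalkingMultispan.right i))
    refine ⟨t, ht0, fun t' ht' => hu t' fun j => ?_⟩
    rcases j with ⟨a | i⟩
    · change P.map ((pullback.fst (γ a.1) (γ a.2)) ≫ γ a.1).op t' = _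
      rw [op_comp, Functor.map_comp_apply, ht']
    · exact ht' i

variable {E' : Type v} [Category.{w} E'] (F : (Sheaf J (Type u))ᵒᵖ ⥤ E')

theorem isSheaf_iff_preservesLimits :
    Presheaf.IsSheaf (Sheaf.canonicalTopology (Sheaf J (Type u))) F ↔ PreservesLimitsOfSize.{u, u} F := by
  constructor
  · intro h
    refine ⟨fun {K} _ => ⟨fun {D} => ⟨fun {c} hc => ⟨coyonedaJointlyReflectsLimits _ _ fun X => ?_⟩⟩⟩⟩
    obtain ⟨X⟩ := X
    have := preservesLimits_of_isSheaf (h X)
    exact isLimitOfPreserves (F ⋙ coyoneda.obj (op X)) hc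
  · intro h X
    exact isSheaf_of_preservesLimits inferInstance

end Groth.CanonSheaf
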