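import Mathlib
import Groth.Agent.Lib.CanonSheaf.Limits

set_option autoImplicit false
universe w v u

namespace Groth.CanonSheaf

set_option synthInstance.maxHeartbeats 400000
set_option maxHeartbeats 1000000

open CategoryTheory CategoryTheory.Limits Opposite

variable {C D : Type u} [SmallCategory C] [SmallCategory D] {J : GrothendieckTopology C}
  {K : GrothendieckTopology D} (f : Sheaf J (Type u) ⥤ Sheaf K (Type u))

/-- A functor between sheaf categories preserving colimits is a left adjoint. -/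
theorem isLeftAdjoint_of_preservesColimits [PreservesColimitsOfSize.{u, u} f] : f.IsLeftAdjoint := by
  let L := presheafToSheaf J (Type u) ⋙ f
  have : PreservesColimitsOfSize.{u, u} (presheafToSheaf J (Type u)) :=
    (sheafificationAdjunction J (Type u)).leftAdjoint_preservesColimits
  have : PreservesColimitsOfSize.{u, u} L := inferInstance
  have : L.IsLeftAdjoint := Presheaf.isLeftAdjoint_of_preservesColimits.{u, u, u} (C := Cᵒᵖ) L
  let adj := Adjunction.ofIsLeftAdjoint L
  let R := L.rightAdjoint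
  have key : ∀ G, Presheaf.IsSheaf J (R.obj G) := fun G => by
    let η := toSheafify J (R.obj G)
    have : IsIso (L.map η) := by
      have h : IsIso ((presheafToSheaf J (Type u)).map η) := (J.W_iff η).1 (J.W_toSheafify _)
      exact Functor.map_isIso f _
    let r : sheafify J (R.obj G) ⟶ R.obj G :=
      adj.homEquiv _ _ (inv (L.map η) ≫ (adj.homEquiv _ _).symm (𝟙 _))
    have h1 : η ≫ r = 𝟙 _ := by
      rw [← Adjunction.homEquiv_naturality_left, IsIso.hom_inv_id_assoc, Equiv.apply_symm_apply]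
    have h2 : r ≫ η = 𝟙 _ := sheafify_hom_ext J _ _ (presheafToSheaf J (Type u) |>.obj (R.obj G)).property
      (by rw [reassoc_of% h1, Category.comp_id])
    exact (Presheaf.isSheaf_of_iso_iff ⟨r, η, h2, h1⟩).1 ((presheafToSheaf J (Type u)).obj (R.obj G)).property
  let R' : Sheaf K (Type u) ⥤ Sheaf J (Type u) := ObjectProperty.lift _ R key
  refine ⟨R', ⟨adj.restrictFullyFaithful (fullyFaithfulSheafToPresheaf J (Type u)) (Functor.FullyFaithful.id _)
    ?_ (Iso.refl _)⟩⟩
  exact (Functor.associator _ _ _).symm ≪≫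
    Functor.isoWhiskerRight (asIso (sheafificationAdjunction J (Type u)).counit) f

/-- Preservation of colimits from the sheaf property of `f.op`. -/
theorem preservesColimits_of_isSheaf
    (h : ∀ G : Sheaf K (Type u),
      Presieve.IsSheaf (Sheaf.canonicalTopology (Sheaf J (Type u))) (f.op ⋙ yoneda.obj G)) :
    PreservesColimitsOfSize.{u, u} f := by
  have hh : Presheaf.IsSheaf (Sheaf.canonicalTopology (Sheaf J (Type u))) f.op := fun X => by
    refine Presieve.isSheaf_iso _ (NatIso.ofComponents (fun Y => ?_) ?_) (h X.unop)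
    · exact (Equiv.toIso { toFun := fun g => g.op, invFun := fun g => g.unop,
                           left_inv := fun g => rfl, right_inv := fun g => rfl })
    · intro Y Z g
      rfl
  have : PreservesLimitsOfSize.{u, u} f.op := (isSheaf_iff_preservesLimits f.op).1 hh
  exact preservesColimitsOfSize_of_op f

theorem isSheafFor_comp_of_pullbacks [PreservesFiniteLimits f]
    (hf : ∀ (ι : Type u) (H : Sheaf J (Type u)) (G : ι → Sheaf J (Type u)) (g : ∀ i, G i ⟶ H),
      (∀ (Z : Sheaf J (Type u)) (a b : H ⟶ Z), (∀ i, g i ≫ a = g i ≫ b) → a = b) →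
      ∀ (Z : Sheaf K (Type u)) (a b : f.obj H ⟶ Z), (∀ i, f.map (g i) ≫ a = f.map (g i) ≫ b) → a = b)
    (W : Sheaf K (Type u)) :
    Presieve.IsSheaf (Sheaf.canonicalTopology (Sheaf J (Type u))) (f.op ⋙ yoneda.obj W) := by
  suffices key : ∀ (F : Sheaf J (Type u)) (S : Sieve F), LS S →
      ∃ S' : Sieve F, S' ≤ S ∧ LS S' ∧ Presieve.IsSheafFor (f.op ⋙ yoneda.obj W) S'.arrows by
    intro F S hS
    obtain ⟨S', hle, hS', hP'⟩ := key F S (mem_iff_LS.1 hS)
    refine Presieve.isSheafFor_subsieve_aux _ hle hP' fun Y g _ => ?_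
    obtain ⟨R, hRle, -, hR⟩ := key Y (S'.pullback g) (hS'.pullback g)
    intro x a b ha hb
    exact hR.isSeparatedFor (fun W g hg => x g (hRle _ hg)) a b (fun W g hg => ha g (hRle _ hg))
      fun W g hg => hb g (hRle _ hg)
  intro F S hS
  let I := Σ U : C, {x : F.obj.obj (op U) // S (hat F x)}
  let G := fun i : I => (ε J).obj i.1
  let γ : ∀ i : I, G i ⟶ F := fun i => hat F i.2.1
  have hLS : LS (Sieve.ofArrows G γ) := fun U x => J.superset_covering
    (fun V v hv => Sieve.ofArrows_mk G γ ⟨V, _, hv⟩) (hS U x)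
  refine ⟨Sieve.ofArrows G γ, ?_, hLS, ?_⟩
  · rw [Sieve.ofArrows, Sieve.generate_le_iff]
    rintro _ _ ⟨i⟩
    exact i.2.2
  refine (Presieve.isSheafFor_iff_generate _).1 ((Presieve.isSheafFor_arrows_iff_pullbacks _ _).2 fun x hx => ?_)
  have hepi : ∀ (Z : Sheaf J (Type u)) (a b : F ⟶ Z), (∀ i, γ i ≫ a = γ i ≫ b) → a = b := fun Z a b hab =>
    epi_of_mem (mem_of_LS hLS) Z a b fun Y g hg => by
      rw [Sieve.mem_ofArrows_iff] at hg
      obtain ⟨i, c, rfl⟩ := hg
      rw [Category.assoc, Category.assoc, hab]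
  have himg := hf I F G γ hepi
  have hT : Sieve.ofArrows (fun i => f.obj (G i)) (fun i => f.map (γ i)) ∈
      Sheaf.canonicalTopology (Sheaf K (Type u)) (f.obj F) :=
    mem_of_LS (LS_of_epi _ fun Z a b hab => himg Z a b fun i => hab _ _ (Sieve.ofArrows_mk _ _ i))
  obtain ⟨t, ht, hu⟩ := (Presieve.isSheafFor_arrows_iff _ _).1
    ((Presieve.isSheafFor_iff_generate _).2 (Sheaf.isSheaf_yoneda_obj W _ hT)) x (fun i j Z a b hab => by
      obtain ⟨l, hla, hlb⟩ := ((IsPullback.of_hasPullback (γ i) (γ j)).map f).exists_lift a b hab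
      change a ≫ x i = b ≫ x j
      have := hx i j
      change f.map (pullback.fst (γ i) (γ j)) ≫ x i = f.map (pullback.snd (γ i) (γ j)) ≫ x j at this
      rw [← hla, ← hlb, Category.assoc, Category.assoc, this])
  exact ⟨t, ht, hu⟩

end Groth.CanonSheaf
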